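import Mathlib

set_option linter.unusedSectionVars false
set_option linter.unusedVariables false
set_option autoImplicit false
set_option maxHeartbeats 400000

noncomputable section

namespace Groth.Agent.Lib.Helper6.AvoidD

open DirectSum

universe u

section Avoid

variable {R : Type u} [CommRing R] {M : Type u} [AddCommGroup M] [Module R M]

/-- a module is not a union of `d` proper saturated submodules if the residue ring has at least
`d` elements -/
theorem avoid (p : Ideal R) [p.IsPrime] :
    ∀ (d : ℕ) (V : Fin d → Submodule R M)
      (hsat : ∀ i (r : R) (m : M), r ∉ p → r • m ∈ V i → m ∈ V i)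
      (hproper : ∀ i, ∃ m, m ∉ V i)
      (hcard : ∀ S : Finset (R ⧸ p), S.card < d → ∃ r : R, Ideal.Quotient.mk p r ∉ S),
      ∃ m, ∀ i, m ∉ V i := by
  classical
  intro d
  induction d with
  | zero =>
    intro V _ _ _
    exact ⟨0, fun i => i.elim0⟩
  | succ d ih =>
    intro V hsat hproper hcard
    obtain ⟨f, hf⟩ := ih (fun i => V i.castSucc) (fun i => hsat i.castSucc)
      (fun i => hproper i.castSucc) (fun S hS => hcard S (by omega))
    by_cases hfl : f ∉ V (Fin.last d)
    · refine ⟨f, fun i => ?_⟩
      refine Fin.lastCases hfl (fun j => hf j) i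
    · rw [not_not] at hfl
      obtain ⟨g, hg⟩ := hproper (Fin.last d)
      let bad : Fin d → R ⧸ p := fun i =>
        if h : ∃ r : R, g + r • f ∈ V i.castSucc then Ideal.Quotient.mk p h.choose else 0
      let S : Finset (R ⧸ p) := Finset.univ.image bad
      have hS : S.card < d + 1 := by
        have h1 : S.card ≤ (Finset.univ : Finset (Fin d)).card :=
          Finset.card_image_le (s := (Finset.univ : Finset (Fin d))) (f := bad)
        rw [Finset.card_univ, Fintype.card_fin] at h1
        omega
      obtain ⟨r, hr⟩ := hcard S hS
      refine ⟨g + r • f, fun i => ?_⟩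
      refine Fin.lastCases ?_ (fun j => ?_) i
      · intro h
        apply hg
        have : g = (g + r • f) - r • f := by abel
        rw [this]
        exact (V (Fin.last d)).sub_mem h ((V (Fin.last d)).smul_mem r hfl)
      · intro h
        have hex : ∃ r : R, g + r • f ∈ V j.castSucc := ⟨r, h⟩
        have hbad : bad j = Ideal.Quotient.mk p hex.choose := dif_pos hex
        have hne : Ideal.Quotient.mk p r ≠ Ideal.Quotient.mk p hex.choose := by
          intro heq
          apply hr
          rw [heq, ← hbad]
          exact Finset.mem_image_of_mem _ (Finset.mem_univ j)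
        have hnp : r - hex.choose ∉ p := by
          intro hmem
          apply hne
          rw [Ideal.Quotient.eq]
          exact hmem
        have h2 : (r - hex.choose) • f ∈ V j.castSucc := by
          have : (r - hex.choose) • f = (g + r • f) - (g + hex.choose • f) := by
            rw [sub_smul]; abel
          rw [this]
          exact (V j.castSucc).sub_mem h hex.choose_spec
        exact hf j (hsat j.castSucc _ _ hnp h2)

/-- the cardinality hypothesis in terms of the residue field -/
theorem card_hyp (p : Ideal R) [p.IsPrime] (d : ℕ)
    (hcard : (d : Cardinal) ≤ Cardinal.mk p.ResidueField) :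
    ∀ S : Finset (R ⧸ p), S.card < d → ∃ r : R, Ideal.Quotient.mk p r ∉ S := by
  classical
  intro S hS
  suffices h : ∃ y : R ⧸ p, y ∉ S by
    obtain ⟨y, hy⟩ := h
    obtain ⟨r, rfl⟩ := Ideal.Quotient.mk_surjective y
    exact ⟨r, hy⟩
  by_cases hfin : Finite (R ⧸ p)
  · haveI := hfin
    haveI : Fintype (R ⧸ p) := Fintype.ofFinite _
    have hfield : IsField (R ⧸ p) := Finite.isField_of_domain (R ⧸ p)
    haveI : p.IsMaximal := Ideal.Quotient.maximal_of_isField p hfield
    have hbij := Ideal.bijective_algebraMap_quotient_residueField p
    have hc : Cardinal.mk (R ⧸ p) = Cardinal.mk p.ResidueField :=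
      Cardinal.mk_congr (Equiv.ofBijective _ hbij)
    by_contra hno
    push Not at hno
    have hS' : S = Finset.univ := Finset.eq_univ_iff_forall.mpr hno
    have h1 : (S.card : Cardinal) = Cardinal.mk (R ⧸ p) := by
      rw [hS', Finset.card_univ, Cardinal.mk_fintype]
    rw [← hc, ← h1] at hcard
    have : d ≤ S.card := by exact_mod_cast hcard
    omega
  · rw [not_finite_iff_infinite] at hfin
    haveI := hfin
    exact Infinite.exists_notMem_finset S

end Avoid

end Groth.Agent.Lib.Helper6.AvoidD
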