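import Mathlib
import Groth.Agent.Lib.Helper6.AvoidD.Basic

set_option linter.unusedSectionVars false
set_option linter.unusedVariables false
set_option autoImplicit false
set_option maxHeartbeats 400000

noncomputable section

namespace Groth.Agent.Lib.Helper6.AvoidD

open DirectSum AlgebraicGeometry

universe u

section Gen

variable {R A : Type u} [CommRing R] [CommRing A] [Algebra R A] (𝒜 : ℕ → Submodule R A)
  [GradedAlgebra 𝒜]

/-- positive-degree components of elements of the algebra generated in degree one lie in the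
ideal generated by degree one -/
theorem pos_comp_mem (hgen : Algebra.adjoin R (𝒜 1 : Set A) = ⊤) (b : A) :
    ∀ n : ℕ, 1 ≤ n → (decompose 𝒜 b n : A) ∈ Ideal.span (𝒜 1 : Set A) := by
  classical
  have hb : b ∈ Algebra.adjoin R (𝒜 1 : Set A) := by rw [hgen]; exact Algebra.mem_top
  induction hb using Algebra.adjoin_induction with
  | mem x hx =>
    intro n hn
    by_cases h1 : n = 1
    · subst h1
      rw [decompose_of_mem_same 𝒜 hx]
      exact Ideal.subset_span hx
    · rw [decompose_of_mem_ne 𝒜 hx (Ne.symm h1)]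
      exact Ideal.zero_mem _
  | algebraMap r =>
    intro n hn
    have h0 : algebraMap R A r ∈ 𝒜 0 := SetLike.algebraMap_mem_graded 𝒜 r
    rw [decompose_of_mem_ne 𝒜 h0 (by omega)]
    exact Ideal.zero_mem _
  | add x y _ _ hx hy =>
    intro n hn
    rw [decompose_add]
    exact Ideal.add_mem _ (hx n hn) (hy n hn)
  | mul x y _ _ hx hy =>
    intro n hn
    rw [decompose_mul, DirectSum.coe_mul_apply]
    apply Ideal.sum_mem
    intro ij hij
    rw [Finset.mem_filter] at hij
    by_cases h1 : 1 ≤ ij.1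
    · exact Ideal.mul_mem_right _ _ (hx _ h1)
    · have h2 : 1 ≤ ij.2 := by omega
      exact Ideal.mul_mem_left _ _ (hy _ h2)

/-- a relevant homogeneous prime does not contain the degree one part -/
theorem exists_not_mem (hgen : Algebra.adjoin R (𝒜 1 : Set A) = ⊤) (x : ProjectiveSpectrum 𝒜) :
    ∃ g ∈ 𝒜 1, g ∉ x.asHomogeneousIdeal := by
  classical
  by_contra hno
  push Not at hno
  apply x.not_irrelevant_le
  intro a ha
  have ha0 : (decompose 𝒜 a 0 : A) = 0 := ha
  have hle : Ideal.span (𝒜 1 : Set A) ≤ x.asHomogeneousIdeal.toIdeal := by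
    rw [Ideal.span_le]
    intro g hg
    exact hno g hg
  rw [← sum_support_decompose 𝒜 a]
  apply Ideal.sum_mem
  intro n _
  by_cases hn : n = 0
  · subst hn
    rw [ha0]
    exact Ideal.zero_mem _
  · exact hle (pos_comp_mem 𝒜 hgen a n (by omega))

theorem main (hgen : Algebra.adjoin R (𝒜 1 : Set A) = ⊤)
    (p : Ideal R) [p.IsPrime] {d : ℕ} (x : Fin d → Proj 𝒜)
    (hx : ∀ i, ((x i).asHomogeneousIdeal.toIdeal).comap (algebraMap R A) = p)
    (hcard : (d : Cardinal) ≤ Cardinal.mk p.ResidueField) :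
    ∃ g ∈ 𝒜 1, ∀ i, x i ∈ Proj.basicOpen 𝒜 g := by
  let V : Fin d → Submodule R (𝒜 1) := fun i =>
    ((x i).asHomogeneousIdeal.toIdeal.restrictScalars R).comap (𝒜 1).subtype
  have hV : ∀ i (m : 𝒜 1), m ∈ V i ↔ (m : A) ∈ (x i).asHomogeneousIdeal.toIdeal := fun i m => Iff.rfl
  obtain ⟨m, hm⟩ := avoid (M := 𝒜 1) p d V
    (by
      intro i r m hr hrm
      rw [hV] at hrm ⊢
      have h1 : algebraMap R A r * (m : A) ∈ (x i).asHomogeneousIdeal.toIdeal := by
        rw [← Algebra.smul_def]
        exact hrm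
      rcases (x i).isPrime.mem_or_mem h1 with h2 | h2
      · exfalso
        apply hr
        rw [← hx i]
        exact h2
      · exact h2)
    (by
      intro i
      obtain ⟨g, hg, hgx⟩ := exists_not_mem 𝒜 hgen (x i)
      exact ⟨⟨g, hg⟩, hgx⟩)
    (card_hyp p d hcard)
  refine ⟨m, m.2, fun i => ?_⟩
  rw [Proj.mem_basicOpen]
  exact hm i

end Gen

end Groth.Agent.Lib.Helper6.AvoidD
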